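import Groth.Agent.BendBreak.Surface

/-!
Positive dimensional fibres of a proper birational morphism to a smooth scheme are covered by rational curves.
-/

set_option autoImplicit false
set_option backward.isDefEq.respectTransparency false
set_option backward.isDefEq.respectTransparency.types false
set_option linter.style.haveILetI false
set_option maxHeartbeats 2000000
set_option synthInstance.maxHeartbeats 400000

universe u

open CategoryTheory CategoryTheory.Limits AlgebraicGeometry TopologicalSpace TensorProduct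

noncomputable section

namespace Groth.Agent.BendBreak

variable {k : Type u} [Field k] [IsAlgClosed k]

local notation "Sk" => Spec (CommRingCat.of k)

local notation "cl" => IsLocalRing.closedPoint k

/-- An arc through a closed point, generically in a given open, read in a chart of the target. -/
theorem exists_arc {X Y : Scheme.{u}} (sX : X ⟶ Sk) [LocallyOfFiniteType sX] (f : Y ⟶ X) [LocallyOfFiniteType f] [IsIntegral Y]
    (V₀ : X.Opens) (hV₀ : (f ⁻¹ᵁ V₀ : Set Y).Nonempty) {B : Type u} [CommRing B] [Algebra k B]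
    (u : Spec (CommRingCat.of B) ⟶ X) [IsOpenImmersion u]
    (hu : u ≫ sX = Spec.map (CommRingCat.ofHom (algebraMap k B))) {y : Y} (hy : IsClosed ({y} : Set Y))
    (hyu : f y ∈ Set.range u) (hyV : f y ∉ V₀) :
    ∃ (C : Type u) (_ : CommRing C) (_ : IsDomain C) (_ : Algebra k C) (g : B →ₐ[k] C) (c : C →ₐ[k] k)
      (γ : Spec (CommRingCat.of C) ⟶ Y), Algebra.Smooth k C ∧ ringKrullDim C = 1 ∧
        γ ≫ f = Spec.map (CommRingCat.ofHom g.toRingHom) ≫ u ∧
        γ (Spec.map (CommRingCat.ofHom c.toRingHom) cl) = y ∧ γ (genericPoint _) ∈ f ⁻¹ᵁ V₀ := by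
  obtain ⟨W, hW, hyW, hWle⟩ := exists_isAffineOpen_mem_and_subset (X := Y) (x := y) (U := f ⁻¹ᵁ u.opensRange) hyu
  let A := Γ(Y, W)
  obtain ⟨α, hα⟩ : ∃ α, Spec.map α = hW.fromSpec ≫ f ≫ sX := ⟨_, Spec.map_preimage _⟩
  letI : Algebra k A := α.hom.toAlgebra
  haveI : Algebra.FiniteType k A := by
    haveI : LocallyOfFiniteType (Spec.map α) := hα ▸ inferInstance
    exact RingHom.finiteType_algebraMap.mp ((HasRingHomProperty.Spec_iff (P := @LocallyOfFiniteType)).mp ‹_›)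
  haveI : Nonempty W.toScheme := ⟨⟨y, hyW⟩⟩
  haveI : IsDomain A := inferInstance
  obtain ⟨a, ha⟩ : ∃ a, Spec.map a = IsOpenImmersion.lift u (hW.fromSpec ≫ f) (by
      rintro _ ⟨w, rfl⟩
      rw [Scheme.Hom.comp_apply]
      exact hWle (hW.range_fromSpec.le ⟨w, rfl⟩)) := ⟨_, Spec.map_preimage _⟩
  have hau : Spec.map a ≫ u = hW.fromSpec ≫ f := by rw [ha, IsOpenImmersion.lift_fac]
  have hak : a.hom.comp (algebraMap k B) = algebraMap k A := by
    have h1 : Spec.map (CommRingCat.ofHom (algebraMap k B) ≫ a) = Spec.map α := by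
      rw [Spec.map_comp, ← hu, reassoc_of% hau, hα]
    exact congrArg CommRingCat.Hom.hom (Spec.map_injective h1)
  let aA : B →ₐ[k] A := { a.hom with commutes' := fun r => RingHom.congr_fun hak r }
  haveI : LocallyOfFiniteType (f ≫ sX) := inferInstance
  let P := pointOfClosedPoint (f ≫ sX) y hy
  obtain ⟨e, he⟩ : ∃ e, Spec.map e = IsOpenImmersion.lift hW.fromSpec P (by
      rintro _ ⟨w, rfl⟩
      rw [hW.range_fromSpec, show P w = y from pointOfClosedPoint_apply (f ≫ sX) y hy w]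
      exact hyW) := ⟨_, Spec.map_preimage _⟩
  have heW : Spec.map e ≫ hW.fromSpec = P := by rw [he, IsOpenImmersion.lift_fac]
  have hek : e.hom.comp α.hom = RingHom.id k := by
    have h1 : Spec.map (α ≫ e) = Spec.map (𝟙 _) := by
      rw [Spec.map_comp, hα, reassoc_of% heW, Spec.map_id]
      exact pointOfClosedPoint_comp (f ≫ sX) y hy
    exact congrArg CommRingCat.Hom.hom (Spec.map_injective h1)
  let ev : A →ₐ[k] k := { e.hom with commutes' := fun r => RingHom.congr_fun hek r }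
  have hη : genericPoint Y ∈ W ⊓ f ⁻¹ᵁ V₀ :=
    ⟨((genericPoint_spec Y).mem_open_set_iff W.2).2 ⟨y, trivial, hyW⟩,
      ((genericPoint_spec Y).mem_open_set_iff (f ⁻¹ᵁ V₀).2).2 (by simpa using hV₀)⟩
  obtain ⟨g, hgle, hgη⟩ := hW.exists_basicOpen_le (V := f ⁻¹ᵁ V₀) (⟨genericPoint Y, hη.2⟩ : (f ⁻¹ᵁ V₀ : Y.Opens)) hη.1
  have hg0 : g ≠ 0 := by
    rintro rfl
    rw [Scheme.basicOpen_zero] at hgη
    exact hgη
  have hev : ev g = 0 := by
    by_contra hne
    refine hyV (hgle ?_)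
    have h1 : Spec.map e cl ∈ PrimeSpectrum.basicOpen g := by
      show g ∉ Ideal.comap e.hom (IsLocalRing.maximalIdeal k)
      rw [Ideal.mem_comap, IsLocalRing.mem_maximalIdeal, mem_nonunits_iff, not_not]
      exact isUnit_iff_ne_zero.2 hne
    have h2 : hW.fromSpec (Spec.map e cl) ∈ Y.basicOpen g := by
      show Spec.map e cl ∈ hW.fromSpec ⁻¹ᵁ Y.basicOpen g
      rw [hW.fromSpec_preimage_basicOpen]; exact h1
    rwa [← Scheme.Hom.comp_apply, heW, pointOfClosedPoint_apply] at h2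
  obtain ⟨C, _, _, _, ψ, c₀, c₁, hsm, hdim, hc₀, hc₁⟩ := AVRat.exists_curve_alg (K := k) ev hg0 hev
  refine ⟨C, inferInstance, inferInstance, inferInstance, ψ.comp aA, c₀,
    Spec.map (CommRingCat.ofHom ψ.toRingHom) ≫ hW.fromSpec, hsm, hdim, ?_, ?_, ?_⟩
  · rw [Category.assoc, ← hau, ← Spec.map_comp_assoc]
    rfl
  · rw [← Scheme.Hom.comp_apply, ← Spec.map_comp_assoc]
    have h1 : CommRingCat.ofHom ψ.toRingHom ≫ CommRingCat.ofHom c₀.toRingHom = e :=
      CommRingCat.hom_ext (RingHom.ext fun r => AlgHom.congr_fun hc₀ r)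
    rw [h1, heW]
    exact pointOfClosedPoint_apply (f ≫ sX) y hy _
  · refine hgle ?_
    show genericPoint (Spec (CommRingCat.of C)) ∈ (Spec.map (CommRingCat.ofHom ψ.toRingHom) ≫ hW.fromSpec) ⁻¹ᵁ Y.basicOpen g
    refine (genericPoint_specializes (Spec.map (CommRingCat.ofHom c₁.toRingHom) cl)).mem_open
      (Opens.isOpen _) ?_
    show Spec.map (CommRingCat.ofHom ψ.toRingHom) (Spec.map (CommRingCat.ofHom c₁.toRingHom) cl) ∈
      hW.fromSpec ⁻¹ᵁ Y.basicOpen g
    rw [hW.fromSpec_preimage_basicOpen]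
    show c₁ (ψ g) ∉ IsLocalRing.maximalIdeal k
    rw [IsLocalRing.mem_maximalIdeal, mem_nonunits_iff, not_not]
    exact isUnit_iff_ne_zero.2 hc₁

/-- Through every closed point of a fibre with at least two closed points passes a contracted rational curve. -/
theorem exists_contracted_curve {X Y : Scheme.{u}} (sX : X ⟶ Sk) [Smooth sX] [IsSeparated sX] (f : Y ⟶ X)
    [IsProper f] [IsIntegral Y] (V₀ : X.Opens) [IsIso (f ∣_ V₀)] (hV₀ : (f ⁻¹ᵁ V₀ : Set Y).Nonempty) {y y' : Y}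
    (hy : IsClosed ({y} : Set Y)) (hy' : IsClosed ({y'} : Set Y)) (hne : y ≠ y') (hf : f y = f y')
    (hyV : f y ∉ V₀) :
    ∃ φ : CohB1.ProjSpace 1 k ⟶ Y, φ ≫ f ≫ sX = CohB1.ProjSpace.toSpec 1 k ∧ y ∈ Set.range φ ∧
      (∀ w, ¬ Set.range φ ⊆ {w}) ∧ ∃ x, Set.range (φ ≫ f) ⊆ {x} := by
  by_contra H
  push Not at H
  refine hne ?_
  obtain ⟨d, B, _, _, u, η, hu, huS, hxu, hη⟩ := exists_etale_chart sX (f y)
  haveI := hu
  obtain ⟨C₁, _, _, _, g₁, c₁, γ₁, hsm₁, hd₁, hγ₁, hγ₁y, hγ₁η⟩ := exists_arc sX f V₀ hV₀ u huS hy hxu hyV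
  obtain ⟨C₂, _, _, _, g₂, c₂, γ₂, hsm₂, hd₂, hγ₂, hγ₂y, hγ₂η⟩ :=
    exists_arc sX f V₀ hV₀ u huS hy' (hf ▸ hxu) (hf ▸ hyV)
  haveI := hsm₁; haveI := hsm₂
  have hcg : c₁.comp g₁ = c₂.comp g₂ := by
    have key : Spec.map (CommRingCat.ofHom (c₁.comp g₁).toRingHom) ≫ u =
        Spec.map (CommRingCat.ofHom (c₂.comp g₂).toRingHom) ≫ u := by
      have hk : ∀ (c : B →ₐ[k] k), (Spec.map (CommRingCat.ofHom c.toRingHom) ≫ u) ≫ sX = 𝟙 _ := fun c => by
        rw [Category.assoc, huS, ← Spec.map_comp, ← CommRingCat.ofHom_comp,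
          show c.toRingHom.comp (algebraMap k B) = RingHom.id k from c.comp_algebraMap, CommRingCat.ofHom_id, Spec.map_id]
      refine ext_of_apply_closedPoint_eq sX (hk _) (hk _) ?_
      have e1 : Spec.map (CommRingCat.ofHom c₁.toRingHom) ≫ γ₁ ≫ f =
          Spec.map (CommRingCat.ofHom (c₁.comp g₁).toRingHom) ≫ u := by
        rw [hγ₁, ← Spec.map_comp_assoc]; rfl
      have e2 : Spec.map (CommRingCat.ofHom c₂.toRingHom) ≫ γ₂ ≫ f =
          Spec.map (CommRingCat.ofHom (c₂.comp g₂).toRingHom) ≫ u := by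
        rw [hγ₂, ← Spec.map_comp_assoc]; rfl
      rw [← e1, ← e2]
      simp only [Scheme.Hom.comp_apply]
      rw [hγ₁y, hγ₂y, hf]
    exact AlgHom.ext fun r => RingHom.congr_fun
      (congrArg CommRingCat.Hom.hom (Spec.map_injective ((cancel_mono u).1 key))) r
  -- the surface
  let Ψ := Spec.map (CommRingCat.ofHom (interp η c₁ g₁ g₂).toRingHom)
  let E := Spec.map (CommRingCat.ofHom η.toRingHom)
  haveI : Etale E := (HasRingHomProperty.Spec_iff (P := @Etale)).mpr hη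
  let S₀ := pullback Ψ E
  haveI : Etale (pullback.fst Ψ E) := MorphismProperty.pullback_fst (P := @Etale) _ _ ‹_›
  haveI := relDim_two (k := k) hd₁ hd₂
  let sT := Spec.map (CommRingCat.ofHom (algebraMap k (C₁ ⊗[k] C₂)))
  haveI : SmoothOfRelativeDimension (0 + 2) (pullback.fst Ψ E ≫ sT) := inferInstance
  haveI : Smooth (pullback.fst Ψ E ≫ sT) := SmoothOfRelativeDimension.smooth (0 + 2) _
  let σ₁ : Spec (CommRingCat.of C₁) ⟶ S₀ := pullback.lift (Spec.map (CommRingCat.ofHom (axis₁ c₂).toRingHom))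
    (Spec.map (CommRingCat.ofHom g₁.toRingHom)) (by
      rw [← Spec.map_comp, ← Spec.map_comp]
      congr 1
      exact CommRingCat.hom_ext (congrArg AlgHom.toRingHom (axis₁_interp η c₁ c₂ g₁ g₂ hcg)))
  let σ₂ : Spec (CommRingCat.of C₂) ⟶ S₀ := pullback.lift (Spec.map (CommRingCat.ofHom (axis₂ c₁).toRingHom))
    (Spec.map (CommRingCat.ofHom g₂.toRingHom)) (by
      rw [← Spec.map_comp, ← Spec.map_comp]
      congr 1
      exact CommRingCat.hom_ext (congrArg AlgHom.toRingHom (axis₂_interp η c₁ g₁ g₂)))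
  let pt₁ := Spec.map (CommRingCat.ofHom c₁.toRingHom) cl
  let pt₂ := Spec.map (CommRingCat.ofHom c₂.toRingHom) cl
  have hz : σ₁ pt₁ = σ₂ pt₂ := by
    have : Spec.map (CommRingCat.ofHom c₁.toRingHom) ≫ σ₁ = Spec.map (CommRingCat.ofHom c₂.toRingHom) ≫ σ₂ := by
      apply pullback.hom_ext
      · rw [Category.assoc, Category.assoc, pullback.lift_fst, pullback.lift_fst, ← Spec.map_comp, ← Spec.map_comp]
        congr 1
        refine CommRingCat.hom_ext (congrArg AlgHom.toRingHom (?_ : c₁.comp (axis₁ c₂) = c₂.comp (axis₂ c₁)))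
        ext r
        · simp [axis₁, axis₂]
        · simp [axis₁, axis₂]
      · rw [Category.assoc, Category.assoc, pullback.lift_snd, pullback.lift_snd, ← Spec.map_comp, ← Spec.map_comp]
        congr 1
        exact CommRingCat.hom_ext (congrArg AlgHom.toRingHom hcg)
    simp only [pt₁, pt₂]
    rw [← Scheme.Hom.comp_apply, this, Scheme.Hom.comp_apply]
  haveI : IsLocallyNoetherian S₀ := LocallyOfFiniteType.isLocallyNoetherian (pullback.fst Ψ E ≫ sT)
  have hreg₀ := WeilExt.regular_of_smooth (WeilExt.regular_spec (R := k)) (pullback.fst Ψ E ≫ sT)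
  haveI : IsRegularLocalRing (S₀.presheaf.stalk (σ₁ pt₁)) := hreg₀ _
  haveI : IsDomain (S₀.presheaf.stalk (σ₁ pt₁)) := RegLoc.isDomain _
  obtain ⟨V₁, hzV₁, -, hVint, -⟩ := SectionExt.exists_integral_nhd (σ₁ pt₁) ⊤ trivial
  obtain ⟨V, hV, hzV, hVV₁⟩ := exists_isAffineOpen_mem_and_subset (X := S₀) (x := σ₁ pt₁) (U := V₁) hzV₁
  haveI : Nonempty V.toScheme := ⟨⟨_, hzV⟩⟩
  haveI := hVint
  haveI : IsIntegral V.toScheme := isIntegral_of_isOpenImmersion (S₀.homOfLE hVV₁)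
  haveI : IsAffine V.toScheme := hV
  haveI : IsLocallyNoetherian V.toScheme := inferInstance
  haveI : IsNoetherian V.toScheme := {}
  let sS := V.ι ≫ pullback.fst Ψ E ≫ sT
  haveI : SmoothOfRelativeDimension (0 + (0 + 2)) sS := inferInstance
  haveI : Smooth sS := inferInstance
  haveI : IsSeparated sS := inferInstance
  have hreg := WeilExt.regular_of_smooth (WeilExt.regular_spec (R := k)) sS
  have hdim : topologicalKrullDim V.toScheme ≤ 2 := dim_le_of_relDim sS (0 + (0 + 2))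
  let prX : V.toScheme ⟶ X := V.ι ≫ pullback.snd Ψ E ≫ u
  have hprX : prX ≫ sX = sS := by
    simp only [prX, sS, Category.assoc, huS]
    congr 1
    have hC : ∀ {R : Type u} [CommRing R] [Algebra k R] (q : MvPolynomial (Fin d) k →ₐ[k] R),
        Spec.map (CommRingCat.ofHom (algebraMap k R)) =
          Spec.map (CommRingCat.ofHom q.toRingHom) ≫ Spec.map (CommRingCat.ofHom (algebraMap k (MvPolynomial (Fin d) k))) :=
      fun q => by rw [← Spec.map_comp, ← CommRingCat.ofHom_comp, show q.toRingHom.comp _ = _ from q.comp_algebraMap]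
    simp only [sT]
    rw [hC η, hC (interp η c₁ g₁ g₂)]
    exact (pullback.condition_assoc (f := Ψ) (g := E) _).symm
  let U := prX ⁻¹ᵁ V₀
  have hσu₁ : σ₁ ≫ pullback.snd Ψ E ≫ u = γ₁ ≫ f := by rw [pullback.lift_snd_assoc, hγ₁]
  have hσu₂ : σ₂ ≫ pullback.snd Ψ E ≫ u = γ₂ ≫ f := by rw [pullback.lift_snd_assoc, hγ₂]
  have hUne : (U : Set V.toScheme).Nonempty := by
    have hgV : σ₁ (genericPoint _) ∈ V := (genericPoint_specializes pt₁).mem_open (σ₁ ⁻¹ᵁ V).2 hzV
    refine ⟨⟨_, hgV⟩, ?_⟩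
    show (pullback.snd Ψ E ≫ u) (σ₁ (genericPoint _)) ∈ V₀
    rw [← Scheme.Hom.comp_apply, hσu₁, Scheme.Hom.comp_apply]
    exact hγ₁η
  obtain ⟨S', g, h, hg, hh, -⟩ := PtBlow.exists_morphism hreg hdim prX f U hUne
    (prX ∣_ V₀ ≫ inv (f ∣_ V₀) ≫ (f ⁻¹ᵁ V₀).ι)
    (by rw [Category.assoc, Category.assoc, ← morphismRestrict_ι f V₀, IsIso.inv_hom_id_assoc, morphismRestrict_ι])
  haveI := hg.isProper
  haveI : IsSeparated (f ≫ sX) := inferInstance
  let x₀ : V.toScheme := ⟨σ₁ pt₁, hzV⟩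
  have hprx₀ : prX x₀ = f y := by
    show (pullback.snd Ψ E ≫ u) (σ₁ pt₁) = f y
    rw [← Scheme.Hom.comp_apply, hσu₁, Scheme.Hom.comp_apply, hγ₁y]
  -- each axis lifts
  have hlift : ∀ {C : Type u} [CommRing C] [IsDomain C] [Algebra k C] [Algebra.Smooth k C] (_ : ringKrullDim C = 1)
      (σ : Spec (CommRingCat.of C) ⟶ S₀) (γ : Spec (CommRingCat.of C) ⟶ Y) (_ : σ ≫ pullback.snd Ψ E ≫ u = γ ≫ f)
      (_ : γ (genericPoint _) ∈ f ⁻¹ᵁ V₀) (c : Spec (CommRingCat.of C)) (_ : σ c = σ₁ pt₁),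
      ∃ w, g w = x₀ ∧ h w = γ c := by
    intro C _ _ _ _ hC σ γ hσ hγη c hc
    let sC := Spec.map (CommRingCat.ofHom (algebraMap k C))
    haveI : Smooth sC := (HasRingHomProperty.Spec_iff (P := @Smooth)).mpr (RingHom.smooth_algebraMap.mpr ‹Algebra.Smooth k C›)
    let D := σ ⁻¹ᵁ V
    have hcD : c ∈ D := show σ c ∈ V from hc ▸ hzV
    haveI : Nonempty D.toScheme := ⟨⟨c, hcD⟩⟩
    haveI : IsLocallyNoetherian (Spec (CommRingCat.of C)) := LocallyOfFiniteType.isLocallyNoetherian sC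
    haveI : IsIntegral D.toScheme := isIntegral_of_isOpenImmersion D.ι
    have hregD := WeilExt.regular_of_smooth (WeilExt.regular_spec (R := k)) (D.ι ≫ sC)
    have hdimD : ∀ v : D.toScheme, ringKrullDim (D.toScheme.presheaf.stalk v) ≤ 1 := fun v => by
      rw [ringKrullDim_eq_of_ringEquiv (asIso (D.ι.stalkMap v)).commRingCatIsoToRingEquiv.symm]
      exact (RegDual.ringKrullDim_stalk_le_topologicalKrullDim _).trans
        (le_of_eq ((PrimeSpectrum.topologicalKrullDim_eq_ringKrullDim C).trans hC))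
    let m := σ ∣_ V
    have hmc : m ⟨c, hcD⟩ = x₀ := Subtype.ext (by rw [morphismRestrict_base_coe]; exact hc)
    have hmf : m ≫ prX = D.ι ≫ γ ≫ f := by
      simp only [prX, m, morphismRestrict_ι_assoc, hσ]
      rfl
    let v₀ : D.toScheme := ⟨genericPoint _, (genericPoint_specializes c).mem_open D.2 hcD⟩
    have hv₀ : prX (m v₀) ∈ V₀ := by
      rw [← Scheme.Hom.comp_apply, hmf, Scheme.Hom.comp_apply, Scheme.Hom.comp_apply]
      exact hγη
    have hξ : ringKrullDim (V.toScheme.presheaf.stalk (m v₀)) < 2 := by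
      by_contra hcon
      have h2 := le_antisymm ((RegDual.ringKrullDim_stalk_le_topologicalKrullDim _).trans hdim) (not_lt.1 hcon)
      have hsp : m v₀ ⤳ m ⟨c, hcD⟩ :=
        ((subtype_specializes_iff v₀ ⟨c, hcD⟩).2 (genericPoint_specializes c)).map m.continuous
      have he : m ⟨c, hcD⟩ = m v₀ := hsp.mem_closed (PtBlow.isClosed_of_dim_two hdim h2) rfl
      rw [← he, hmc, hprx₀] at hv₀
      exact hyV hv₀
    obtain ⟨O, hO, hOiso⟩ := seq_iso_nhd hg _ hξ
    haveI := hOiso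
    obtain ⟨τ, hτ⟩ := exists_lift g O hregD hdimD m ⟨v₀, hO⟩
    refine ⟨τ ⟨c, hcD⟩, by rw [← Scheme.Hom.comp_apply, hτ, hmc], ?_⟩
    have heq : τ ≫ h = D.ι ≫ γ := by
      have hff : (τ ≫ h) ≫ f = (D.ι ≫ γ) ≫ f := by rw [Category.assoc, hh, reassoc_of% hτ, hmf, Category.assoc]
      let O₁ : D.toScheme.Opens := (D.ι ≫ γ ≫ f) ⁻¹ᵁ V₀
      have hO₁ : (O₁ : Set D.toScheme).Nonempty := ⟨v₀, by
        show (D.ι ≫ γ ≫ f) v₀ ∈ V₀
        rw [← hmf, Scheme.Hom.comp_apply]; exact hv₀⟩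
      haveI : IsDominant O₁.ι := ⟨by rw [DenseRange, Scheme.Opens.range_ι]; exact O₁.2.dense hO₁⟩
      refine ext_of_isDominant_of_isSeparated f hff O₁.ι ?_
      have hr : ∀ a : D.toScheme ⟶ Y, a ≫ f = D.ι ≫ γ ≫ f → Set.range (O₁.ι ≫ a) ⊆ Set.range (f ⁻¹ᵁ V₀).ι := by
        rintro a ha _ ⟨v, rfl⟩
        rw [Scheme.Opens.range_ι]
        show f (a (O₁.ι v)) ∈ V₀
        rw [← Scheme.Hom.comp_apply a f, ha]
        exact v.2
      rw [← IsOpenImmersion.lift_fac (f ⁻¹ᵁ V₀).ι (O₁.ι ≫ τ ≫ h) (hr _ (by rw [hff, Category.assoc])),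
        ← IsOpenImmersion.lift_fac (f ⁻¹ᵁ V₀).ι (O₁.ι ≫ D.ι ≫ γ) (hr _ (by rw [Category.assoc]))]
      congr 1
      rw [← cancel_mono (f ∣_ V₀), ← cancel_mono V₀.ι]
      simp only [Category.assoc, morphismRestrict_ι, IsOpenImmersion.lift_fac_assoc]
      rw [← Category.assoc τ, ← Category.assoc O₁.ι, ← Category.assoc O₁.ι]
      simp only [Category.assoc] at hff ⊢
      rw [hff]
    rw [← Scheme.Hom.comp_apply, heq, Scheme.Hom.comp_apply]
    rfl
  obtain ⟨w₁, hw₁, hhw₁⟩ := hlift hd₁ σ₁ γ₁ hσu₁ hγ₁η pt₁ rfl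
  obtain ⟨w₂, hw₂, hhw₂⟩ := hlift hd₂ σ₂ γ₂ hσu₂ hγ₂η pt₂ hz.symm
  have hx₀ : IsClosed ({x₀} : Set V.toScheme) := by
    haveI : LocallyOfFiniteType (pullback.fst Ψ E ≫ sT) := inferInstance
    have hk : (Spec.map (CommRingCat.ofHom c₁.toRingHom) ≫ σ₁) ≫ pullback.fst Ψ E ≫ sT = 𝟙 _ := by
      rw [Category.assoc, pullback.lift_fst_assoc]
      simp only [sT]
      rw [← Spec.map_comp, ← Spec.map_comp, ← CommRingCat.ofHom_comp, ← CommRingCat.ofHom_comp,
        show (axis₁ c₂).toRingHom.comp (algebraMap k (C₁ ⊗[k] C₂)) = algebraMap k C₁ from (axis₁ c₂).comp_algebraMap,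
        show c₁.toRingHom.comp (algebraMap k C₁) = RingHom.id k from c₁.comp_algebraMap, CommRingCat.ofHom_id, Spec.map_id]
    have h1 : IsClosed ({(Spec.map (CommRingCat.ofHom c₁.toRingHom) ≫ σ₁) cl} : Set S₀) :=
      ((pointEquivClosedPoint (pullback.fst Ψ E ≫ sT)) ⟨_, hk⟩).2
    rw [Scheme.Hom.comp_apply] at h1
    have h2 : ({x₀} : Set V.toScheme) = V.ι ⁻¹' {σ₁ pt₁} := by
      ext v
      exact ⟨fun h => h ▸ rfl, fun h => Subtype.ext h⟩
    rw [h2]
    exact h1.preimage V.ι.continuous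
  have hconst := fibre_constant_of_fibre hg sS h hy hx₀ (fun φ hφ hrange hpy => by
    by_contra hcon
    push Not at hcon
    refine H (φ ≫ h) (by rw [Category.assoc, ← Category.assoc h, hh, Category.assoc, hprX, hφ]) hpy hcon (f y) ?_
    rintro _ ⟨v, rfl⟩
    rw [Category.assoc, hh, Scheme.Hom.comp_apply, Scheme.Hom.comp_apply, show g (φ v) = x₀ from hrange ⟨v, rfl⟩, hprx₀]
    rfl) hw₁ (hhw₁.trans hγ₁y) w₂ hw₂
  exact (hhw₂.trans hγ₂y).symm.trans hconst |>.symm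

end Groth.Agent.BendBreak
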