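import Groth.Agent.BendBreak.Main
import Groth.Agent.DimAffMap.Basic

/-!
A pointed curve moving in a family with the marked point fixed on no rational curve is constant.
-/

set_option autoImplicit false
set_option backward.isDefEq.respectTransparency false
set_option backward.isDefEq.respectTransparency.types false
set_option linter.style.haveILetI false
set_option maxHeartbeats 2000000
set_option synthInstance.maxHeartbeats 400000

universe u

open CategoryTheory CategoryTheory.Limits AlgebraicGeometry TopologicalSpace MonoidalCategory CartesianMonoidalCategory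

noncomputable section

namespace Groth.Agent.BendBreak

variable {k : Type u} [Field k] [IsAlgClosed k]

local notation "pt₁" => (𝟙_ (Over (Spec (CommRingCat.of k))))

local notation "cl" => IsLocalRing.closedPoint k

theorem exists_factor_fst {X C B : Over (Spec (CommRingCat.of k))} [IsProper X.hom] [IsProper C.hom]
    [IsIntegral C.left] [Smooth C.hom] (hC : topologicalKrullDim C.left = 1)
    [IsIntegral B.left] [IsSeparated B.hom] [LocallyOfFiniteType B.hom] [QuasiCompact B.hom]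
    (hB : topologicalKrullDim B.left = 1) (F : C ⊗ B ⟶ X) (c₀ : pt₁ ⟶ C) (p : pt₁ ⟶ X)
    (hfix : lift (toUnit B ≫ c₀) (𝟙 B) ≫ F = toUnit B ≫ p)
    (hrat : ∀ φ : CohB1.ProjSpace 1 k ⟶ X.left, φ ≫ X.hom = CohB1.ProjSpace.toSpec 1 k →
      p.left cl ∈ Set.range φ → ∃ y, Set.range φ ⊆ {y}) : ∃ G : C ⟶ X, F = fst C B ≫ G := by
  obtain ⟨B₀, jB, b₀, hjB, hB₀i, hB₀s, hB₀sep, hB₀qc, -⟩ := AVRat.exists_smooth_open B
  haveI := hjB; haveI := hB₀i; haveI := hB₀s; haveI := hB₀sep; haveI := hB₀qc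
  have hne : (jB.left.opensRange : Set B.left).Nonempty := ⟨_, b₀.left cl, rfl⟩
  have hB₀dim : topologicalKrullDim B₀.left = 1 := by
    rw [← hB, ← DimAffMap.dim_opens B.hom jB.left.opensRange (jB.left.opensRange.2.dense hne)]
    exact IsHomeomorph.topologicalKrullDim_eq _ jB.left.isoOpensRange.hom.homeomorph.isHomeomorph
  obtain ⟨Z, q, j, hj, hjq, hZi, hZs, hZdim, n, i, hi, hiq⟩ := SmoothCompl.exists_completion B₀.hom hB₀dim
  haveI := hj
  let Y : Over (Spec (CommRingCat.of k)) := Over.mk q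
  haveI : IsIntegral Y.left := hZi
  haveI : Smooth Y.hom := hZs
  haveI : IsProper Y.hom := by
    change IsProper q
    rw [← hiq]
    haveI := hi
    haveI := ProjMor.isProper_toSpec n k
    infer_instance
  haveI : LocallyOfFiniteType (C ⊗ Y).hom := by rw [Over.tensorObj_hom]; infer_instance
  let jY : B₀ ⟶ Y := Over.homMk j hjq
  haveI : IsOpenImmersion jY.left := hj
  haveI : Mono jY := Over.mono_of_mono_left _
  let U₁ : Y.left.Opens := j.opensRange
  have hU₁ : (U₁ : Set Y.left).Nonempty := ⟨_, b₀.left cl, rfl⟩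
  let U : (C ⊗ Y).left.Opens := (snd C Y).left ⁻¹ᵁ U₁
  let To : Over (Spec (CommRingCat.of k)) := Over.mk (U.ι ≫ (C ⊗ Y).hom)
  let ιo : To ⟶ C ⊗ Y := Over.homMk U.ι rfl
  have hr : Set.range (ιo ≫ snd C Y).left ⊆ Set.range j := by
    rintro _ ⟨w, rfl⟩
    rw [Over.comp_left, Scheme.Hom.comp_apply]
    exact w.2
  let ao : To ⟶ B₀ := Over.homMk (IsOpenImmersion.lift j (ιo ≫ snd C Y).left hr) (by
    rw [← hjq, IsOpenImmersion.lift_fac_assoc]; exact Over.w (ιo ≫ snd C Y))
  have hao : ao ≫ jY = ιo ≫ snd C Y := Over.OverMorphism.ext (IsOpenImmersion.lift_fac _ _ _)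
  let F₁ : To ⟶ X := lift (ιo ≫ fst C Y) (ao ≫ jB) ≫ F
  have hval : ∀ (c : pt₁ ⟶ C) (b : pt₁ ⟶ B₀) (hy : (lift c (b ≫ jY)).left cl ∈ U),
      F₁.left ⟨_, hy⟩ = (lift c (b ≫ jB) ≫ F).left cl := fun c b hy => by
    have hr' : Set.range (lift c (b ≫ jY)).left ⊆ Set.range U.ι := by
      rw [Scheme.Opens.range_ι]
      rintro _ ⟨w, rfl⟩
      haveI : Subsingleton (pt₁).left := inferInstanceAs (Subsingleton (PrimeSpectrum k))
      rw [Subsingleton.elim w cl]
      exact hy
    let t : pt₁ ⟶ To := Over.homMk (IsOpenImmersion.lift U.ι (lift c (b ≫ jY)).left hr')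
      (by
        show _ ≫ U.ι ≫ (C ⊗ Y).hom = _
        rw [IsOpenImmersion.lift_fac_assoc]; exact Over.w (lift c (b ≫ jY)))
    have ht : t ≫ ιo = lift c (b ≫ jY) := Over.OverMorphism.ext (IsOpenImmersion.lift_fac _ _ _)
    have htm : t ≫ lift (ιo ≫ fst C Y) (ao ≫ jB) = lift c (b ≫ jB) := by
      rw [comp_lift, reassoc_of% ht, lift_fst]
      congr 1
      rw [← Category.assoc]
      congr 1
      rw [← cancel_mono jY, Category.assoc, hao, reassoc_of% ht, lift_snd]
    have htp : t.left cl = ⟨_, hy⟩ := U.ι.isOpenEmbedding.injective (by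
      exact (Scheme.Hom.comp_apply t.left U.ι cl).symm.trans congr($(congrArg CommaMorphism.left ht) cl))
    have e : t ≫ F₁ = lift c (b ≫ jB) ≫ F := by
      show t ≫ lift (ιo ≫ fst C Y) (ao ≫ jB) ≫ F = _
      rw [← Category.assoc, htm]
    exact (congrArg F₁.left htp.symm).trans ((Scheme.Hom.comp_apply t.left F₁.left cl).symm.trans
      congr($(congrArg CommaMorphism.left e) cl))
  have hpts : ∀ y : pt₁ ⟶ Y, y.left cl ∈ U₁ → ∃ b : pt₁ ⟶ B₀, b ≫ jY = y := fun y hy => by
    have hr' : Set.range y.left ⊆ Set.range j := by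
      rintro _ ⟨w, rfl⟩
      haveI : Subsingleton (pt₁).left := inferInstanceAs (Subsingleton (PrimeSpectrum k))
      rw [Subsingleton.elim w cl]
      exact hy
    exact ⟨Over.homMk (IsOpenImmersion.lift j y.left hr') (by rw [← hjq, IsOpenImmersion.lift_fac_assoc]; exact Over.w y),
      Over.OverMorphism.ext (IsOpenImmersion.lift_fac _ _ _)⟩
  obtain ⟨N, hc₀, hN⟩ := constant_near (X := X) (Y := Y) hC hZdim U₁ F₁.left (Over.w F₁) c₀ p (fun y hy => by
    have hyU : y.left cl ∈ U₁ := by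
      have := hy
      change (snd C Y).left ((lift c₀ y).left cl) ∈ U₁ at this
      rwa [← Scheme.Hom.comp_apply, ← Over.comp_left, lift_snd] at this
    obtain ⟨b, rfl⟩ := hpts y hyU
    refine (hval c₀ b hy).trans ?_
    rw [show lift c₀ (b ≫ jB) ≫ F = p from ?_]
    rw [show lift c₀ (b ≫ jB) = (b ≫ jB) ≫ lift (toUnit B ≫ c₀) (𝟙 B) by
      rw [comp_lift, Category.comp_id, ← Category.assoc (b ≫ jB), show (b ≫ jB) ≫ toUnit B = 𝟙 _ from toUnit_unique _ _,
        Category.id_comp], Category.assoc, hfix, ← Category.assoc, show (b ≫ jB) ≫ toUnit B = 𝟙 _ from toUnit_unique _ _,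
      Category.id_comp]) hU₁ hrat
  let G : C ⟶ X := lift (𝟙 C) (toUnit C ≫ b₀ ≫ jB) ≫ F
  refine ⟨G, ?_⟩
  haveI : GeometricallyIntegral C.hom := AbExt.geometricallyIntegral_of_integral
  haveI : IsLocallyNoetherian B.left := LocallyOfFiniteType.isLocallyNoetherian B.hom
  haveI : LocallyOfFiniteType (C ⊗ B).hom := by rw [Over.tensorObj_hom]; infer_instance
  haveI : IsLocallyNoetherian (pullback C.hom B.hom) :=
    LocallyOfFiniteType.isLocallyNoetherian (pullback.snd C.hom B.hom ≫ B.hom)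
  haveI : IsIntegral (C ⊗ B).left :=
    GeometricallyIntegral.isIntegral_of_isLocallyNoetherian (pullback.snd C.hom B.hom)
  let D : (C ⊗ B).left.Opens := (fst C B).left ⁻¹ᵁ N ⊓ (snd C B).left ⁻¹ᵁ jB.left.opensRange
  have hD : (D : Set (C ⊗ B).left).Nonempty := ⟨(lift c₀ (b₀ ≫ jB)).left cl, by
    refine ⟨?_, ?_⟩
    · show (fst C B).left _ ∈ N
      rw [← Scheme.Hom.comp_apply, ← Over.comp_left, lift_fst]; exact hc₀
    · show (snd C B).left _ ∈ jB.left.opensRange
      rw [← Scheme.Hom.comp_apply, ← Over.comp_left, lift_snd]; exact ⟨b₀.left cl, rfl⟩⟩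
  haveI : LocallyOfFiniteType (F.left ≫ X.hom) := by rw [Over.w]; infer_instance
  refine Over.OverMorphism.ext (ext_of_apply_eq X.hom (D : Set _) D.2.isLocallyClosed (D.2.dense hD)
    (fun w hw hwc => ?_) (by rw [Over.w, Over.w]))
  obtain ⟨t, rfl⟩ := exists_point_of_closed hwc
  obtain ⟨hwN, hwB⟩ := hw
  have hr' : Set.range (t ≫ snd C B).left ⊆ Set.range jB.left := by
    rintro _ ⟨v, rfl⟩
    haveI : Subsingleton (pt₁).left := inferInstanceAs (Subsingleton (PrimeSpectrum k))
    rw [Subsingleton.elim v cl, Over.comp_left, Scheme.Hom.comp_apply]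
    exact hwB
  let b : pt₁ ⟶ B₀ := Over.homMk (IsOpenImmersion.lift jB.left (t ≫ snd C B).left hr') (by
    rw [← Over.w jB, IsOpenImmersion.lift_fac_assoc]; exact Over.w (t ≫ snd C B))
  have hb : b ≫ jB = t ≫ snd C B := Over.OverMorphism.ext (IsOpenImmersion.lift_fac _ _ _)
  have hmem : ∀ b : pt₁ ⟶ B₀, (lift (t ≫ fst C B) (b ≫ jY)).left cl ∈ U := fun b => by
    show (snd C Y).left _ ∈ U₁
    rw [← Scheme.Hom.comp_apply, ← Over.comp_left, lift_snd]
    exact ⟨b.left cl, rfl⟩
  have key := hN (t ≫ fst C B) (by rw [Over.comp_left, Scheme.Hom.comp_apply]; exact hwN) (b ≫ jY) (b₀ ≫ jY) (hmem b) (hmem b₀)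
  replace key := (hval _ b (hmem b)).symm.trans (key.trans (hval _ b₀ (hmem b₀)))
  rw [← Scheme.Hom.comp_apply, ← Over.comp_left, ← Scheme.Hom.comp_apply, ← Over.comp_left]
  refine Eq.trans ?_ (key.trans ?_)
  · rw [hb, show lift (t ≫ fst C B) (t ≫ snd C B) = t by rw [← comp_lift, lift_fst_snd, Category.comp_id]]
  · rw [show t ≫ fst C B ≫ G = lift (t ≫ fst C B) (b₀ ≫ jB) ≫ F by
      simp only [G]
      rw [← Category.assoc t, ← Category.assoc, comp_lift, Category.comp_id, ← Category.assoc (t ≫ fst C B),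
        show (t ≫ fst C B) ≫ toUnit C = 𝟙 _ from toUnit_unique _ _, Category.id_comp]]

end Groth.Agent.BendBreak
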