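import Groth.Agent.AbExt.Main
import Groth.Agent.AbExt.NoRat
import Groth.Agent.AbExt.Product

/-!
Fibres of sequences of point blow-ups of surfaces over an algebraically closed field.
-/

set_option autoImplicit false
set_option backward.isDefEq.respectTransparency false
set_option backward.isDefEq.respectTransparency.types false
set_option linter.style.haveILetI false

universe u

open CategoryTheory CategoryTheory.Limits AlgebraicGeometry TopologicalSpace

noncomputable section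

namespace Groth.Agent.BendBreak

/-- Over a neighbourhood of a point of dimension at most one a sequence of point blow-ups is an isomorphism. -/
theorem seq_iso_nhd {X X' : Scheme.{u}} {g : X' ⟶ X} (hg : PtBlow.Seq g) :
    ∀ ξ : X, ringKrullDim (X.presheaf.stalk ξ) < 2 → ∃ O : X.Opens, ξ ∈ O ∧ IsIso (g ∣_ O) := by
  induction hg with
  | id X => exact fun ξ _ => ⟨⊤, trivial, inferInstance⟩
  | @step Y Z X b r z hz hN hb hr ih =>
    intro ξ hξ
    haveI := hN
    haveI := PtBlow.isProper_blowUp hz hb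
    haveI := hr.isProper
    obtain ⟨O, hξO, hO⟩ := ih ξ hξ
    haveI := hO
    have hzξ : r z ≠ ξ := by
      intro e
      have hw : z ∈ r ⁻¹ᵁ O := show r z ∈ O from e ▸ hξO
      have e₀ := (asIso ((r ∣_ O).stalkMap ⟨z, hw⟩)).commRingCatIsoToRingEquiv
      have e₁ := (asIso ((r ⁻¹ᵁ O).ι.stalkMap ⟨z, hw⟩)).commRingCatIsoToRingEquiv
      have e₂ := (asIso (O.ι.stalkMap ((r ∣_ O) ⟨z, hw⟩))).commRingCatIsoToRingEquiv
      have hd : ringKrullDim (Z.presheaf.stalk z) < 2 := by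
        have e3 : O.ι ((r ∣_ O) ⟨z, hw⟩) = ξ := by
          rw [← Scheme.Hom.comp_apply, morphismRestrict_ι]; exact e
        refine lt_of_eq_of_lt ((ringKrullDim_eq_of_ringEquiv e₁).trans ((ringKrullDim_eq_of_ringEquiv e₀.symm).trans
          (ringKrullDim_eq_of_ringEquiv e₂.symm))) ?_
        rw [e3]; exact hξ
      exact absurd hz.dim.ge (not_le.2 hd)
    have hcl : IsClosed ({r z} : Set X) := by
      have := r.isClosedMap _ hz.closed
      rwa [Set.image_singleton] at this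
    refine ⟨O ⊓ ⟨{r z}ᶜ, hcl.isOpen_compl⟩, ⟨hξO, hzξ.symm⟩, ?_⟩
    haveI : IsIso (r ∣_ (O ⊓ ⟨{r z}ᶜ, hcl.isOpen_compl⟩)) := PtBlow.isIso_restrict_le r inf_le_left hO
    haveI : IsIso (b ∣_ (r ⁻¹ᵁ (O ⊓ ⟨{r z}ᶜ, hcl.isOpen_compl⟩))) := by
      refine PtBlow.isIso_restrict_le b (V := (PtBlow.pt hz).support.compl) (fun w hw => ?_)
        (BlowUpLib.isIso_restrict hb)
      show w ∉ ((PtBlow.pt hz).support : Set Z)
      rw [PtBlow.coe_support_pt hz]
      rintro rfl
      exact hw.2 rfl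
    rw [morphismRestrict_comp]
    infer_instance

/-- Lifting a map from a regular curve along a proper morphism which is an isomorphism over an open it meets. -/
theorem exists_lift {X X' Y : Scheme.{u}} (g : X' ⟶ X) [IsProper g] (O : X.Opens) [IsIso (g ∣_ O)]
    [IsIntegral Y] [IsLocallyNoetherian Y] (hY : ∀ y : Y, IsRegularLocalRing (Y.presheaf.stalk y))
    (hY1 : ∀ y : Y, ringKrullDim (Y.presheaf.stalk y) ≤ 1) (m : Y ⟶ X) (hm : (m ⁻¹ᵁ O : Set Y).Nonempty) :
    ∃ m' : Y ⟶ X', m' ≫ g = m := by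
  obtain ⟨W, hW, m', hm', -, hWall⟩ := RatExt.exists_hom_points g m (m ⁻¹ᵁ O) ((m ⁻¹ᵁ O).2.dense hm)
    (m ∣_ O ≫ inv (g ∣_ O) ≫ (g ⁻¹ᵁ O).ι)
    (by rw [Category.assoc, Category.assoc, ← morphismRestrict_ι g O, IsIso.inv_hom_id_assoc, morphismRestrict_ι])
    Set.univ
    (fun y _ => RatExt.domain_valuationRing_of_regular (hY y) (hY1 y))
  obtain rfl : W = ⊤ := eq_top_iff.2 fun y _ => hWall y trivial
  exact ⟨Y.topIso.inv ≫ m', by rw [Category.assoc, hm', ← Scheme.topIso_hom, Iso.inv_hom_id_assoc]⟩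

theorem exists_ne_p1 (k : Type u) [Field k] : ∃ a b : CohB1.ProjSpace 1 k, a ≠ b := by
  by_contra h
  push Not at h
  haveI : IsIntegral (CohB1.ProjSpace 1 k) := Horrocks.isIntegral_projSpace
  refine ProjMor.not_isAffine_projLine k ?_
  obtain ⟨W, hW, hgW, -⟩ := exists_isAffineOpen_mem_and_subset (x := genericPoint (CohB1.ProjSpace 1 k)) (U := ⊤) trivial
  have : W = ⊤ := eq_top_iff.2 fun z _ => h (genericPoint _) z ▸ hgW
  haveI : IsAffine ((⊤ : (CohB1.ProjSpace 1 k).Opens) : Scheme.{u}) := this ▸ hW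
  exact IsAffine.of_isIso (CohB1.ProjSpace 1 k).topIso.inv

theorem exists_p1_iso {k k' : Type u} [Field k] [Field k'] (e : Spec (CommRingCat.of k) ≅ Spec (CommRingCat.of k')) :
    ∃ f : CohB1.ProjSpace 1 k ≅ CohB1.ProjSpace 1 k',
      f.hom ≫ CohB1.ProjSpace.toSpec 1 k' = CohB1.ProjSpace.toSpec 1 k ≫ e.hom := by
  obtain ⟨a, ha⟩ := PnSpec.exists_iso 1 k
  obtain ⟨b, hb⟩ := PnSpec.exists_iso 1 k'
  let t := pullback.map (CohB1.ProjSpace.toSpec 1 (ULift.{u} ℤ)) (specULiftZIsTerminal.from (Spec (CommRingCat.of k)))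
    (CohB1.ProjSpace.toSpec 1 (ULift.{u} ℤ)) (specULiftZIsTerminal.from (Spec (CommRingCat.of k')))
    (𝟙 _) e.hom (𝟙 _) (by simp) (specULiftZIsTerminal.hom_ext _ _)
  have ht : t ≫ CohB1.ProjSpaceOver.toBase 1 (Spec (CommRingCat.of k')) =
      CohB1.ProjSpaceOver.toBase 1 (Spec (CommRingCat.of k)) ≫ e.hom := pullback.lift_snd _ _ _
  haveI : IsIso t := pullback.map_isIso _ _ _ _ _ _ _ _ _
  let T : CohB1.ProjSpaceOver 1 (Spec (CommRingCat.of k)) ≅ CohB1.ProjSpaceOver 1 (Spec (CommRingCat.of k')) := asIso t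
  refine ⟨a ≪≫ T ≪≫ b.symm, ?_⟩
  rw [← hb, Iso.trans_hom, Iso.trans_hom, Iso.symm_hom, Category.assoc, Category.assoc, b.inv_hom_id_assoc,
    asIso_hom, ht, reassoc_of% ha]

variable {k : Type u} [Field k] [IsAlgClosed k]

theorem dim_le_one_p1 (y : CohB1.ProjSpace 1 k) : ringKrullDim ((CohB1.ProjSpace 1 k).presheaf.stalk y) ≤ 1 :=
  (RegDual.ringKrullDim_stalk_le_topologicalKrullDim y).trans (le_of_eq (by rw [S10829.result k 1]; rfl))

/-- The fibre over a closed point is preconnected and is a single point or covered by nonconstant rational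
curves. -/
theorem seq_fibre {X X' : Scheme.{u}} {g : X' ⟶ X} (hg : PtBlow.Seq g) :
    ∀ (sX : X ⟶ Spec (CommRingCat.of k)), LocallyOfFiniteType sX → ∀ x : X, IsClosed ({x} : Set X) →
      _root_.IsConnected (g ⁻¹' {x}) ∧ ∀ w, g w = x → g ⁻¹' {x} = {w} ∨
        ∃ φ : CohB1.ProjSpace 1 k ⟶ X', φ ≫ g ≫ sX = CohB1.ProjSpace.toSpec 1 k ∧ w ∈ Set.range φ ∧
          Set.range φ ⊆ g ⁻¹' {x} ∧ ∀ w', ¬ Set.range φ ⊆ {w'} := by
  induction hg with
  | id X =>
    intro sX _ x hx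
    have e : (𝟙 X : X ⟶ X) ⁻¹' {x} = {x} := by ext; simp
    rw [e]
    refine ⟨isConnected_singleton, fun w hw => Or.inl ?_⟩
    show {x} = {w}
    rw [show w = x from hw]
  | @step Y Z X b r z hz hN hb hr ih =>
    intro sX hsX x hx
    haveI := hN
    haveI := PtBlow.isProper_blowUp hz hb
    haveI := hr.isProper
    haveI := hsX
    obtain ⟨hconn, hcur⟩ := ih sX hsX x hx
    obtain ⟨k', _, ι, hι, -, -, -, hrange, i, hi, hiz, hib⟩ := PtBlow.exists_contraction'' hz hb
    haveI := hi; haveI := hι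
    -- the exceptional line over `k`
    obtain ⟨σ, hσ⟩ : ∃ σ, Spec.map σ = i ≫ r ≫ sX := ⟨_, Spec.map_preimage _⟩
    haveI : IsIso σ := by
      haveI : LocallyOfFiniteType (Spec.map σ) := hσ ▸ inferInstance
      letI : Algebra k k' := σ.hom.toAlgebra
      haveI : Algebra.FiniteType k k' :=
        RingHom.finiteType_algebraMap.mp ((HasRingHomProperty.Spec_iff (P := @LocallyOfFiniteType)).mp ‹_›)
      haveI : Module.Finite k k' := finite_of_finite_type_of_isJacobsonRing k k'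
      exact (ConcreteCategory.isIso_iff_bijective σ).2 (IsAlgClosed.algebraMap_bijective_of_isIntegral (k := k) (K := k'))
    let e : Spec (CommRingCat.of k') ≅ Spec (CommRingCat.of k) := asIso (Spec.map σ)
    obtain ⟨f, hf⟩ := exists_p1_iso e.symm
    have hline : (f.hom ≫ ι) ≫ (b ≫ r) ≫ sX = CohB1.ProjSpace.toSpec 1 k := by
      simp only [Category.assoc]
      rw [reassoc_of% hib, ← hσ, reassoc_of% hf]
      simp [e]
    have hlrange : Set.range (f.hom ≫ ι) = b ⁻¹' {z} := by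
      rw [← hrange]
      ext y
      refine ⟨?_, ?_⟩
      · rintro ⟨a, rfl⟩; exact ⟨f.hom a, rfl⟩
      · rintro ⟨a, rfl⟩
        obtain ⟨a', rfl⟩ := f.hom.surjective a
        exact ⟨a', rfl⟩
    haveI : IsIntegral (CohB1.ProjSpace 1 k) := Horrocks.isIntegral_projSpace
    have hsurj := PtBlow.surjective_blowUp hz hb
    haveI := BlowUpLib.isIso_restrict hb
    have hoff : ∀ v, v ≠ z → ∀ w w', b w = v → b w' = v → w = w' := fun v hv w w' hw hw' => by
      have hmem : ∀ y : Y, b y = v → b y ∈ (PtBlow.pt hz).support.compl := fun y hy => by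
        show b y ∉ ((PtBlow.pt hz).support : Set Z)
        rw [PtBlow.coe_support_pt hz, hy]; exact hv
      exact congrArg Subtype.val ((b ∣_ (PtBlow.pt hz).support.compl).homeomorph.injective
        (a₁ := ⟨w, hmem w hw⟩) (a₂ := ⟨w', hmem w' hw'⟩) (Subtype.ext (by simpa using hw.trans hw'.symm)))
    have hfib : ∀ v : Z, _root_.IsConnected (b ⁻¹' {v}) := fun v => by
      by_cases hv : v = z
      · rw [hv, ← hlrange]; exact isConnected_range (f.hom ≫ ι).continuous
      · obtain ⟨w, hw⟩ := hsurj v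
        rw [show b ⁻¹' {v} = {w} from Set.eq_singleton_iff_unique_mem.2 ⟨hw, fun w' hw' => hoff v hv w' w hw' hw⟩]
        exact isConnected_singleton
    have hpre : (b ≫ r) ⁻¹' {x} = b ⁻¹' (r ⁻¹' {x}) := by
      ext; simp [Scheme.Hom.comp_apply]
    rw [hpre]
    refine ⟨Topology.IsCoinducing.isConnected_preimage_of_isClosed hfib
      (b.isClosedMap.isQuotientMap b.continuous hsurj).isCoinducing (hx.preimage r.continuous) hconn, fun w hw => ?_⟩
    rw [Scheme.Hom.comp_apply] at hw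
    by_cases hwz : b w = z
    · refine Or.inr ⟨f.hom ≫ ι, hline, hlrange.symm.subset hwz, ?_, fun w' hw' => ?_⟩
      · rw [hlrange]
        intro y hy
        show r (b y) = x
        rw [show b y = z from hy, ← hwz]; exact hw
      · obtain ⟨a, c, hac⟩ := exists_ne_p1 k
        exact hac ((f.hom ≫ ι).isClosedEmbedding.injective ((hw' ⟨a, rfl⟩).trans (hw' ⟨c, rfl⟩).symm))
    · rcases hcur (b w) hw with h | ⟨φ, hφS, ⟨a, ha⟩, hφx, hφne⟩
      · refine Or.inl (Set.eq_singleton_iff_unique_mem.2 ⟨by simpa using hw, fun w' hw' => ?_⟩)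
        exact hoff _ hwz w' w (h.subset hw') rfl
      · right
        have hη : φ (genericPoint (CohB1.ProjSpace 1 k)) ≠ z := fun e => hφne z (by
          rintro _ ⟨c, rfl⟩
          exact ((genericPoint_specializes c).map φ.continuous).mem_closed hz.closed e)
        have hne : (φ ⁻¹ᵁ (PtBlow.pt hz).support.compl : Set (CohB1.ProjSpace 1 k)).Nonempty := ⟨genericPoint _, by
          show φ _ ∉ ((PtBlow.pt hz).support : Set Z)
          rw [PtBlow.coe_support_pt hz]; exact hη⟩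
        haveI : Smooth (CohB1.ProjSpace.toSpec 1 k) := CycPB.smooth_toSpec 1 k
        haveI : IsLocallyNoetherian (CohB1.ProjSpace 1 k) :=
          LocallyOfFiniteType.isLocallyNoetherian (CohB1.ProjSpace.toSpec 1 k)
        obtain ⟨φ', hφ'⟩ := exists_lift b (PtBlow.pt hz).support.compl
          (WeilExt.regular_of_smooth (WeilExt.regular_spec (R := k)) (CohB1.ProjSpace.toSpec 1 k)) dim_le_one_p1 φ hne
        refine ⟨φ', by rw [← hφS, ← hφ']; simp only [Category.assoc], ⟨a, hoff _ hwz _ w ?_ rfl⟩, ?_, fun w' hw' => ?_⟩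
        · rw [← Scheme.Hom.comp_apply, hφ', ha]
        · rintro _ ⟨c, rfl⟩
          show r (b (φ' c)) = x
          rw [show b (φ' c) = φ c by rw [← Scheme.Hom.comp_apply, hφ']]
          exact hφx ⟨c, rfl⟩
        · refine hφne (b w') ?_
          rintro _ ⟨c, rfl⟩
          show φ c = b w'
          rw [← hφ', Scheme.Hom.comp_apply, hw' ⟨c, rfl⟩]

/-- A map of the blown up surface sending one point of a fibre to a point lying on no rational curve coming from
the fibre is constant on the fibre. -/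
theorem fibre_constant_of_fibre {X X' Y : Scheme.{u}} {g : X' ⟶ X} (hg : PtBlow.Seq g) [IsNoetherian X]
    (sX : X ⟶ Spec (CommRingCat.of k)) [LocallyOfFiniteType sX] [IsSeparated sX] (h : X' ⟶ Y)
    {p : Y} (hp : IsClosed ({p} : Set Y)) {x : X} (hx : IsClosed ({x} : Set X))
    (hrat : ∀ φ : CohB1.ProjSpace 1 k ⟶ X', φ ≫ g ≫ sX = CohB1.ProjSpace.toSpec 1 k →
      Set.range φ ⊆ g ⁻¹' {x} → p ∈ Set.range (φ ≫ h) → ∃ y, Set.range (φ ≫ h) ⊆ {y})
    {w₀ : X'} (hw₀ : g w₀ = x) (hpw₀ : h w₀ = p) :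
    ∀ w, g w = x → h w = p := by
  haveI := hg.isProper
  haveI := hg.isNoetherian ‹IsNoetherian X›
  obtain ⟨hconn, hcur⟩ := seq_fibre hg sX ‹LocallyOfFiniteType sX› x hx
  let C : Set X' := g ⁻¹' {x}
  have hC : IsClosed C := hx.preimage g.continuous
  haveI : IsProper (CohB1.ProjSpace.toSpec 1 k) := ProjMor.isProper_toSpec (n := 1) (R := k)
  obtain ⟨S, hSf, hScl, hSirr, hCS⟩ := NoetherianSpace.exists_finite_set_isClosed_irreducible hC
  let B : Set X' := ⋃₀ {t ∈ S | ∀ w ∈ t, h w ≠ p}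
  have hB : IsClosed B := by
    have hsub : {t ∈ S | ∀ w ∈ t, h w ≠ p}.Finite := hSf.subset fun t ht => ht.1
    simp only [B, Set.sUnion_eq_biUnion]
    exact hsub.isClosed_biUnion fun t ht => hScl t ht.1
  let A : Set X' := C ∩ h ⁻¹' {p}
  have hcov : C ⊆ A ∪ B := fun w hw => by
    by_cases hwp : h w = p
    · exact Or.inl ⟨hw, hwp⟩
    obtain ⟨t, ht, hwt⟩ := (hCS ▸ hw : w ∈ ⋃₀ S)
    refine Or.inr ⟨t, ⟨ht, fun v hv hvp => hwp ?_⟩, hwt⟩
    obtain ⟨η, hη⟩ := QuasiSober.sober (hSirr t ht) (hScl t ht)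
    have hηC : g η = x := show η ∈ C from hCS ▸ ⟨t, ht, hη.mem⟩
    rcases hcur η hηC with h1 | ⟨φ, hφS, hηφ, hφC, -⟩
    · rw [h1.subset hw, ← h1.subset (show v ∈ g ⁻¹' {x} from hCS.symm.subset ⟨t, ht, hv⟩)]; exact hvp
    · haveI : IsProper (φ ≫ g ≫ sX) := by rw [hφS]; infer_instance
      haveI : IsProper φ := IsProper.of_comp φ (g ≫ sX)
      have htφ : t ⊆ Set.range φ := by
        rw [← hη.def]
        exact closure_minimal (Set.singleton_subset_iff.2 hηφ) φ.isClosedMap.isClosed_range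
      obtain ⟨y, hy⟩ := hrat φ hφS hφC
        (by obtain ⟨c, hc⟩ := htφ hv; exact ⟨c, by rw [Scheme.Hom.comp_apply, hc, hvp]⟩)
      obtain ⟨c, hc⟩ := htφ hwt
      obtain ⟨d, hd⟩ := htφ hv
      have h1 : h (φ c) = y := hy ⟨c, rfl⟩
      have h2 : h (φ d) = y := hy ⟨d, rfl⟩
      rw [hc] at h1; rw [hd] at h2
      rw [h1, ← h2, hvp]
  intro w hw
  by_contra hwp
  obtain ⟨v, -, hv1, hv2⟩ := isPreconnected_closed_iff.1 hconn.isPreconnected A B
    (hC.inter (hp.preimage h.continuous)) hB hcov ⟨w₀, hw₀, hw₀, hpw₀⟩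
    ⟨w, hw, (hcov hw).resolve_left fun h' => hwp h'.2⟩
  obtain ⟨t, ⟨-, ht⟩, hvt⟩ := hv2
  exact ht v hvt hv1.2

/-- A map of the blown up surface sending one point of a fibre to a point lying on no rational curve is
constant on the fibre. -/
theorem fibre_constant {X X' Y : Scheme.{u}} {g : X' ⟶ X} (hg : PtBlow.Seq g) [IsNoetherian X]
    (sX : X ⟶ Spec (CommRingCat.of k)) [LocallyOfFiniteType sX] [IsSeparated sX] (sY : Y ⟶ Spec (CommRingCat.of k))
    (h : X' ⟶ Y) (hh : h ≫ sY = g ≫ sX) {p : Y} (hp : IsClosed ({p} : Set Y))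
    (hrat : ∀ φ : CohB1.ProjSpace 1 k ⟶ Y, φ ≫ sY = CohB1.ProjSpace.toSpec 1 k → p ∈ Set.range φ →
      ∃ y, Set.range φ ⊆ {y})
    {x : X} (hx : IsClosed ({x} : Set X)) {w₀ : X'} (hw₀ : g w₀ = x) (hpw₀ : h w₀ = p) :
    ∀ w, g w = x → h w = p :=
  fibre_constant_of_fibre hg sX h hp hx (fun φ hφ _ hpφ => hrat (φ ≫ h) (by rw [Category.assoc, hh, hφ]) hpφ) hw₀ hpw₀

end Groth.Agent.BendBreak
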