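import Groth.Agent.BendBreak.Fibre
import Groth.Agent.SmoothCompl.Basic
import Groth.Agent.SectRank.RelDim
import Groth.Agent.SectRank.DimOfRelDim
import Groth.Agent.AVRat.AxesSingular
import Groth.Agent.Chev.BorelConst

/-!
Bend and break: a pointed curve moving with the marked point fixed forces a rational curve through it.
-/

set_option autoImplicit false
set_option backward.isDefEq.respectTransparency false
set_option backward.isDefEq.respectTransparency.types false
set_option linter.style.haveILetI false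
set_option maxHeartbeats 2000000
set_option synthInstance.maxHeartbeats 400000

universe u

open CategoryTheory CategoryTheory.Limits AlgebraicGeometry TopologicalSpace MonoidalCategory CartesianMonoidalCategory

noncomputable section

namespace Groth.Agent.BendBreak

variable {k : Type u} [Field k] [IsAlgClosed k]

local notation "pt₁" => (𝟙_ (Over (Spec (CommRingCat.of k))))

local notation "cl" => IsLocalRing.closedPoint k

theorem point_closed {X : Over (Spec (CommRingCat.of k))} [LocallyOfFiniteType X.hom] (p : pt₁ ⟶ X) :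
    IsClosed ({p.left cl} : Set X.left) :=
  ((pointEquivClosedPoint X.hom) ⟨p.left, Over.w p⟩).2

theorem point_eq_of_apply_eq {X : Over (Spec (CommRingCat.of k))} [LocallyOfFiniteType X.hom] (p q : pt₁ ⟶ X)
    (h : p.left cl = q.left cl) : p = q :=
  Over.OverMorphism.ext (ext_of_apply_closedPoint_eq X.hom (Over.w p) (Over.w q) h)

theorem exists_point_of_closed {X : Over (Spec (CommRingCat.of k))} [LocallyOfFiniteType X.hom] {x : X.left}
    (hx : IsClosed ({x} : Set X.left)) : ∃ p : pt₁ ⟶ X, p.left cl = x :=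
  ⟨Over.homMk (pointOfClosedPoint X.hom x hx) (pointOfClosedPoint_comp X.hom x hx),
    pointOfClosedPoint_apply X.hom x hx cl⟩

variable {X C Y : Over (Spec (CommRingCat.of k))} [IsProper X.hom] [IsProper C.hom] [IsProper Y.hom]
  [IsIntegral C.left] [Smooth C.hom] [IsIntegral Y.left] [Smooth Y.hom]

/-- a point of a fibre product of `C` and `Y` over a closed point of `C` -/
theorem point_fst (c : pt₁ ⟶ C) {w : (C ⊗ Y).left} (hw : IsClosed ({w} : Set (C ⊗ Y).left))
    (hwc : (fst C Y).left w = c.left cl) : ∃ y : pt₁ ⟶ Y, (lift c y).left cl = w := by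
  haveI : LocallyOfFiniteType (C ⊗ Y).hom := by rw [Over.tensorObj_hom]; infer_instance
  obtain ⟨q, hq⟩ := exists_point_of_closed hw
  refine ⟨q ≫ snd C Y, ?_⟩
  rw [show lift c (q ≫ snd C Y) = q from CartesianMonoidalCategory.hom_ext _ _
    (by rw [lift_fst]; exact (point_eq_of_apply_eq _ _ (by rw [Over.comp_left, Scheme.Hom.comp_apply, hq, hwc])).symm)
    (by rw [lift_snd]), hq]

theorem constant_near (hC : topologicalKrullDim C.left = 1) (hY : topologicalKrullDim Y.left = 1)
    (U₁ : Y.left.Opens) (F : (((snd C Y).left ⁻¹ᵁ U₁ : (C ⊗ Y).left.Opens) : Scheme.{u}) ⟶ X.left)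
    (hF : F ≫ X.hom = ((snd C Y).left ⁻¹ᵁ U₁).ι ≫ (C ⊗ Y).hom) (c₀ : pt₁ ⟶ C) (p : pt₁ ⟶ X)
    (hfix : ∀ (y : pt₁ ⟶ Y) (hy : (lift c₀ y).left cl ∈ (snd C Y).left ⁻¹ᵁ U₁), F ⟨_, hy⟩ = p.left cl)
    (hU₁ : (U₁ : Set Y.left).Nonempty)
    (hrat : ∀ φ : CohB1.ProjSpace 1 k ⟶ X.left, φ ≫ X.hom = CohB1.ProjSpace.toSpec 1 k →
      p.left cl ∈ Set.range φ → ∃ y, Set.range φ ⊆ {y}) :
    ∃ N : C.left.Opens, c₀.left cl ∈ N ∧ ∀ (c : pt₁ ⟶ C), c.left cl ∈ N → ∀ (y₁ y₂ : pt₁ ⟶ Y)
      (h₁ : (lift c y₁).left cl ∈ (snd C Y).left ⁻¹ᵁ U₁) (h₂ : (lift c y₂).left cl ∈ (snd C Y).left ⁻¹ᵁ U₁),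
        F ⟨_, h₁⟩ = F ⟨_, h₂⟩ := by
  let S := (C ⊗ Y).left
  let U : S.Opens := (snd C Y).left ⁻¹ᵁ U₁
  haveI : IsIntegral (C ⊗ Y).left := AbExt.isIntegral_prod C Y
  haveI : Smooth (C ⊗ Y).hom := by rw [Over.tensorObj_hom]; infer_instance
  haveI : IsProper (C ⊗ Y).hom := by rw [Over.tensorObj_hom]; infer_instance
  haveI : IsLocallyNoetherian Y.left := LocallyOfFiniteType.isLocallyNoetherian Y.hom
  haveI : IsLocallyNoetherian (C ⊗ Y).left := LocallyOfFiniteType.isLocallyNoetherian (C ⊗ Y).hom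
  haveI : IsProper (snd C Y).left := MorphismProperty.pullback_snd (P := @IsProper) _ _ ‹IsProper C.hom›
  haveI : CompactSpace (C ⊗ Y).left := QuasiCompact.compactSpace_of_compactSpace (C ⊗ Y).hom
  haveI : IsNoetherian (C ⊗ Y).left := {}
  haveI : JacobsonSpace (C ⊗ Y).left := LocallyOfFiniteType.jacobsonSpace (C ⊗ Y).hom
  haveI : JacobsonSpace Y.left := LocallyOfFiniteType.jacobsonSpace Y.hom
  have hreg := WeilExt.regular_of_smooth (WeilExt.regular_spec (R := k)) (C ⊗ Y).hom
  have hregY := WeilExt.regular_of_smooth (WeilExt.regular_spec (R := k)) Y.hom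
  have hdimY : ∀ y : Y.left, ringKrullDim (Y.left.presheaf.stalk y) ≤ 1 := fun y =>
    (RegDual.ringKrullDim_stalk_le_topologicalKrullDim y).trans hY.le
  have hdim : topologicalKrullDim (C ⊗ Y).left ≤ 2 := by
    haveI := SectRank.smoothOfRelativeDimension_of_dim C.hom (n := 1) (by simpa using hC)
    haveI := SectRank.smoothOfRelativeDimension_of_dim Y.hom (n := 1) (by simpa using hY)
    haveI : SmoothOfRelativeDimension 2 (C ⊗ Y).hom := by
      rw [Over.tensorObj_hom]
      haveI : MorphismProperty.IsStableUnderBaseChange (@SmoothOfRelativeDimension 1) :=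
        smoothOfRelativeDimension_isStableUnderBaseChange 1
      haveI : SmoothOfRelativeDimension 1 (pullback.fst C.hom Y.hom) :=
        MorphismProperty.pullback_fst (P := @SmoothOfRelativeDimension 1) _ _ ‹_›
      exact inferInstanceAs (SmoothOfRelativeDimension (1 + 1) (pullback.fst C.hom Y.hom ≫ C.hom))
    exact le_of_eq ((SectRank.topologicalKrullDim_of_smoothOfRelativeDimension (C ⊗ Y).hom 2).trans rfl)
  obtain ⟨y₀, hy₀U, hy₀c⟩ := nonempty_inter_closedPoints hU₁ U₁.2.isLocallyClosed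
  obtain ⟨q₀, hq₀⟩ := exists_point_of_closed (X := Y) hy₀c
  have hUne : (U : Set S).Nonempty := ⟨(lift c₀ q₀).left cl, by
    show (snd C Y).left ((lift c₀ q₀).left cl) ∈ U₁
    rw [← Scheme.Hom.comp_apply, ← Over.comp_left, lift_snd, hq₀]; exact hy₀U⟩
  obtain ⟨S', g, h, hg, hh, hres⟩ := PtBlow.exists_morphism hreg hdim (C ⊗ Y).hom X.hom U hUne F hF
  haveI := hg.isProper
  haveI := hg.isNoetherian (X := S) ‹IsNoetherian S›
  haveI : IsSeparated (g ≫ (C ⊗ Y).hom) := inferInstance
  have hFh : ∀ (w : S') (hw : g w ∈ U), h w = F ⟨g w, hw⟩ := fun w hw => by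
    have := congr($hres ⟨w, hw⟩)
    simp only [Scheme.Hom.comp_apply] at this
    refine this.trans (congrArg F (Subtype.ext ?_))
    rw [morphismRestrict_base_coe]
  -- sections of the second projection lift
  have hlift : ∀ c : pt₁ ⟶ C, ∃ m' : Y.left ⟶ S', m' ≫ g = (lift (toUnit Y ≫ c) (𝟙 Y)).left := fun c => by
    let m := (lift (toUnit Y ≫ c) (𝟙 Y) : Y ⟶ C ⊗ Y).left
    have hξ : ringKrullDim (S.presheaf.stalk (m (genericPoint Y.left))) < 2 := by
      by_contra hcon
      have h2 := le_antisymm ((RegDual.ringKrullDim_stalk_le_topologicalKrullDim _).trans hdim) (not_lt.1 hcon)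
      have hcl := (snd C Y).left.isClosedMap _ (PtBlow.isClosed_of_dim_two hdim h2)
      rw [Set.image_singleton, ← Scheme.Hom.comp_apply, ← Over.comp_left, lift_snd] at hcl
      have hpt : ∀ y : Y.left, y = genericPoint Y.left := fun y =>
        (genericPoint_specializes y).mem_closed hcl rfl
      haveI : Subsingleton Y.left := ⟨fun a b => (hpt a).trans (hpt b).symm⟩
      have h0 : topologicalKrullDim Y.left ≤ ((0 : ℕ) : WithBot ℕ∞) := by
        refine Unibranch.topologicalKrullDim_le_natCast fun l c hc => ?_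
        rcases l with _ | l
        · exact le_rfl
        · exact absurd (Subsingleton.elim _ _) (hc 0).2
      rw [hY] at h0
      exact absurd h0 (by decide)
    obtain ⟨O, hO, hOiso⟩ := seq_iso_nhd hg _ hξ
    haveI := hOiso
    exact exists_lift g O hregY hdimY m ⟨genericPoint Y.left, hO⟩
  have hval : ∀ c (y : pt₁ ⟶ Y), (lift (toUnit Y ≫ c) (𝟙 Y) : Y ⟶ C ⊗ Y).left (y.left cl) = (lift c y).left cl :=
    fun c y => by
      rw [← Scheme.Hom.comp_apply, ← Over.comp_left, comp_lift, Category.comp_id,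
        show y ≫ toUnit Y ≫ c = c by rw [← Category.assoc, show y ≫ toUnit Y = 𝟙 _ from toUnit_unique _ _, Category.id_comp]]
  -- the marked point goes to `p`
  obtain ⟨σ', hσ'⟩ := hlift c₀
  have hσp : ∀ y : Y.left, IsClosed ({y} : Set Y.left) → h (σ' y) = p.left cl := by
    have hconst : σ' ≫ h = Y.hom ≫ p.left := by
      haveI : IsReduced Y.left := inferInstance
      haveI : LocallyOfFiniteType ((σ' ≫ h) ≫ X.hom) := by
        rw [Category.assoc, hh, reassoc_of% hσ', Over.w]; infer_instance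
      refine ext_of_apply_eq X.hom ((U₁ : Set Y.left)) U₁.2.isLocallyClosed (U₁.2.dense hU₁) (fun y hy hyc => ?_)
        (by rw [Category.assoc, hh, reassoc_of% hσ', Over.w, Category.assoc, Over.w p]; exact (Category.comp_id _).symm)
      obtain ⟨q, rfl⟩ := exists_point_of_closed (X := Y) hyc
      have hm : g (σ' (q.left cl)) = (lift c₀ q).left cl := by rw [← Scheme.Hom.comp_apply, hσ', hval]
      have hU' : (lift c₀ q).left cl ∈ U := by
        show (snd C Y).left _ ∈ U₁
        rw [← Scheme.Hom.comp_apply, ← Over.comp_left, lift_snd]; exact hy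
      rw [Scheme.Hom.comp_apply, hFh _ (hm ▸ hU'), Scheme.Hom.comp_apply,
        show Y.hom (q.left cl) = cl from Subsingleton.elim (α := PrimeSpectrum k) _ _]
      exact (congrArg F (Subtype.ext hm)).trans (hfix q hU')
    intro y _
    rw [← Scheme.Hom.comp_apply, hconst, Scheme.Hom.comp_apply]
    exact congrArg p.left (Subsingleton.elim (α := PrimeSpectrum k) _ _)
  have hfibre : ∀ (y : pt₁ ⟶ Y) (w : S'), g w = (lift c₀ y).left cl → h w = p.left cl := fun y w hw =>
    fibre_constant hg (C ⊗ Y).hom X.hom h hh (point_closed p) hrat (point_closed _)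
      (w₀ := σ' (y.left cl)) (by rw [← Scheme.Hom.comp_apply, hσ', hval]) (hσp _ (point_closed y)) w hw
  -- the neighbourhood
  obtain ⟨U₀, hU₀, hpU₀, -⟩ := exists_isAffineOpen_mem_and_subset (X := X.left) (x := p.left cl) (U := ⊤) trivial
  let T : Set S := g '' (h ⁻¹ᵁ U₀ : Set S')ᶜ
  have hT : IsClosed T := g.isClosedMap _ (h ⁻¹ᵁ U₀).2.isClosed_compl
  haveI : IsProper (fst C Y).left := MorphismProperty.pullback_fst (P := @IsProper) _ _ ‹IsProper Y.hom›
  let N : C.left.Opens := ⟨((fst C Y).left '' T)ᶜ, ((fst C Y).left.isClosedMap _ hT).isOpen_compl⟩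
  refine ⟨N, ?_, fun c hc y₁ y₂ h₁ h₂ => ?_⟩
  · show c₀.left cl ∉ (fst C Y).left '' T
    rintro ⟨t, ht, htc⟩
    obtain ⟨w, ⟨hwT, hwc⟩, hwcl⟩ := nonempty_inter_closedPoints (Z := T ∩ (fst C Y).left ⁻¹' {c₀.left cl})
      ⟨t, ht, htc⟩ (hT.inter ((point_closed c₀).preimage (fst C Y).left.continuous)).isLocallyClosed
    obtain ⟨y, rfl⟩ := point_fst c₀ hwcl hwc
    obtain ⟨v, hv, hvw⟩ := hwT
    exact hv (show h v ∈ U₀ from hfibre y v hvw ▸ hpU₀)
  · obtain ⟨τ, hτ⟩ := hlift c
    have hr : Set.range (τ ≫ h) ⊆ Set.range U₀.ι := by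
      rw [Scheme.Opens.range_ι]
      rintro _ ⟨y, rfl⟩
      by_contra hcon
      refine hc ⟨g (τ y), ⟨τ y, hcon, rfl⟩, ?_⟩
      rw [← Scheme.Hom.comp_apply τ g, hτ, ← Scheme.Hom.comp_apply, ← Over.comp_left, lift_fst, Over.comp_left,
        Scheme.Hom.comp_apply]
      exact congrArg c.left (Subsingleton.elim (α := PrimeSpectrum k) _ _)
    let l := IsOpenImmersion.lift U₀.ι (τ ≫ h) hr
    let A : Over (Spec (CommRingCat.of k)) := Over.mk (U₀.ι ≫ X.hom)
    haveI : IsAffine A.left := hU₀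
    let L : Y ⟶ A := Over.homMk l (by
      show l ≫ U₀.ι ≫ X.hom = Y.hom
      rw [IsOpenImmersion.lift_fac_assoc, Category.assoc, hh, reassoc_of% hτ, Over.w])
    have hL : L = toUnit Y ≫ y₁ ≫ L := Chev.Borel.eq_of_point_eq y₁ _ _ (by
      rw [← Category.assoc y₁ (toUnit Y), show y₁ ≫ toUnit Y = 𝟙 _ from toUnit_unique _ _, Category.id_comp])
    have key : ∀ (y : pt₁ ⟶ Y) (hy : (lift c y).left cl ∈ U), F ⟨_, hy⟩ = U₀.ι (L.left (y₁.left cl)) := fun y hy => by
      have hm : g (τ (y.left cl)) = (lift c y).left cl := by rw [← Scheme.Hom.comp_apply, hτ, hval]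
      have h1 : U₀.ι (L.left (y.left cl)) = h (τ (y.left cl)) := by
        show U₀.ι (l (y.left cl)) = _
        rw [← Scheme.Hom.comp_apply, IsOpenImmersion.lift_fac, Scheme.Hom.comp_apply]
      have h2 : y ≫ L = y₁ ≫ L := by
        conv_lhs => rw [hL]
        rw [← Category.assoc, show y ≫ toUnit Y = 𝟙 _ from toUnit_unique _ _, Category.id_comp]
      have h3 : L.left (y.left cl) = L.left (y₁.left cl) := by
        rw [← Scheme.Hom.comp_apply, ← Over.comp_left, h2]; rfl
      rw [← h3, h1, hFh _ (hm ▸ hy)]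
      exact congrArg F (Subtype.ext hm.symm)
    rw [key y₁ h₁, key y₂ h₂]

end Groth.Agent.BendBreak
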