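import Groth.Agent.BendBreak.Fibre
import Groth.Agent.AVRat.ConnChain
import Groth.Agent.SectRank.RelDim
import Groth.Agent.SectRank.DimOfRelDim

/-!
An étale surface over a product of two curves interpolating two arcs at a smooth point.
-/

set_option autoImplicit false
set_option backward.isDefEq.respectTransparency false
set_option backward.isDefEq.respectTransparency.types false
set_option linter.style.haveILetI false
set_option maxHeartbeats 2000000
set_option synthInstance.maxHeartbeats 400000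

universe u

open CategoryTheory CategoryTheory.Limits AlgebraicGeometry TopologicalSpace TensorProduct

noncomputable section

namespace Groth.Agent.BendBreak

variable {k : Type u} [Field k] [IsAlgClosed k]

local notation "Sk" => Spec (CommRingCat.of k)

/-- étale coordinates at a point of a smooth scheme -/
theorem exists_etale_chart {X : Scheme.{u}} (sX : X ⟶ Sk) [Smooth sX] (x : X) :
    ∃ (d : ℕ) (B : Type u) (_ : CommRing B) (_ : Algebra k B) (u : Spec (CommRingCat.of B) ⟶ X)
      (η : MvPolynomial (Fin d) k →ₐ[k] B),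
      IsOpenImmersion u ∧ u ≫ sX = Spec.map (CommRingCat.ofHom (algebraMap k B)) ∧ x ∈ Set.range u ∧
        η.toRingHom.Etale := by
  obtain ⟨U, hU, hxU, -⟩ := exists_isAffineOpen_mem_and_subset (X := X) (x := x) (U := ⊤) trivial
  obtain ⟨α, hα⟩ : ∃ α, Spec.map α = hU.fromSpec ≫ sX := ⟨_, Spec.map_preimage _⟩
  letI : Algebra k Γ(X, U) := α.hom.toAlgebra
  haveI : Algebra.Smooth k Γ(X, U) := by
    haveI : Smooth (Spec.map α) := hα ▸ inferInstance
    exact RingHom.smooth_algebraMap.mp ((HasRingHomProperty.Spec_iff (P := @Smooth)).mp ‹_›)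
  let m := (hU.primeIdealOf ⟨x, hxU⟩).asIdeal
  haveI : Algebra.IsSmoothAt k m := inferInstance
  obtain ⟨f, hf, hstd⟩ := Algebra.IsSmoothAt.exists_notMem_isStandardSmooth (R := k) m
  let B := Localization.Away f
  obtain ⟨d, η, hη₁, hη⟩ := RingHom.IsStandardSmooth.exists_etale_mvPolynomial
    (f := algebraMap k B) (RingHom.isStandardSmooth_algebraMap.mpr hstd)
  haveI : IsOpenImmersion (Spec.map (CommRingCat.ofHom (algebraMap Γ(X, U) B))) :=
    IsOpenImmersion.of_isLocalization (R := Γ(X, U)) (S := B) f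
  refine ⟨d, B, inferInstance, inferInstance, Spec.map (CommRingCat.ofHom (algebraMap Γ(X, U) B)) ≫ hU.fromSpec,
    { η with commutes' := fun r => RingHom.congr_fun hη₁ r }, inferInstance, ?_, ?_, hη⟩
  · rw [Category.assoc, ← hα, ← Spec.map_comp]
    rfl
  · have h1 : hU.primeIdealOf ⟨x, hxU⟩ ∈ PrimeSpectrum.basicOpen f := hf
    rw [← SetLike.mem_coe, ← PrimeSpectrum.localization_away_comap_range B f] at h1
    obtain ⟨q, hq⟩ := h1
    refine ⟨q, ?_⟩
    rw [Scheme.Hom.comp_apply]
    exact (congrArg hU.fromSpec hq).trans (hU.fromSpec_primeIdealOf ⟨x, hxU⟩)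

variable {C₁ C₂ B : Type u} [CommRing C₁] [Algebra k C₁] [CommRing C₂] [Algebra k C₂] [CommRing B] [Algebra k B]
  {d : ℕ} (η : MvPolynomial (Fin d) k →ₐ[k] B) (c₁ : C₁ →ₐ[k] k) (c₂ : C₂ →ₐ[k] k) (g₁ : B →ₐ[k] C₁) (g₂ : B →ₐ[k] C₂)

/-- the interpolation of the two arcs in coordinates -/
def interp : MvPolynomial (Fin d) k →ₐ[k] C₁ ⊗[k] C₂ :=
  MvPolynomial.aeval fun i => g₁ (η (MvPolynomial.X i)) ⊗ₜ[k] (1 : C₂) + (1 : C₁) ⊗ₜ[k] g₂ (η (MvPolynomial.X i)) -
    algebraMap k _ (c₁ (g₁ (η (MvPolynomial.X i))))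

/-- the first axis -/
def axis₁ : C₁ ⊗[k] C₂ →ₐ[k] C₁ :=
  Algebra.TensorProduct.lift (AlgHom.id k C₁) ((Algebra.ofId k C₁).comp c₂) fun _ _ => Commute.all _ _

/-- the second axis -/
def axis₂ : C₁ ⊗[k] C₂ →ₐ[k] C₂ :=
  Algebra.TensorProduct.lift ((Algebra.ofId k C₂).comp c₁) (AlgHom.id k C₂) fun _ _ => Commute.all _ _

theorem axis₁_interp (h : c₁.comp g₁ = c₂.comp g₂) :
    (axis₁ c₂).comp (interp η c₁ g₁ g₂) = g₁.comp η := by
  ext i
  have e := AlgHom.congr_fun h (η (MvPolynomial.X i))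
  simp only [AlgHom.comp_apply] at e
  simp [interp, axis₁, e]

theorem axis₂_interp :
    (axis₂ c₁).comp (interp η c₁ g₁ g₂) = g₂.comp η := by
  ext i
  simp [interp, axis₂]

theorem relDim_two [Algebra.Smooth k C₁] [Algebra.Smooth k C₂] [IsDomain C₁] [IsDomain C₂]
    (h₁ : ringKrullDim C₁ = 1) (h₂ : ringKrullDim C₂ = 1) :
    SmoothOfRelativeDimension 2 (Spec.map (CommRingCat.ofHom (algebraMap k (C₁ ⊗[k] C₂)))) := by
  haveI hs₁ : Smooth (Spec.map (CommRingCat.ofHom (algebraMap k C₁))) :=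
    (HasRingHomProperty.Spec_iff (P := @Smooth)).mpr (RingHom.smooth_algebraMap.mpr ‹Algebra.Smooth k C₁›)
  haveI hs₂ : Smooth (Spec.map (CommRingCat.ofHom (algebraMap k C₂))) :=
    (HasRingHomProperty.Spec_iff (P := @Smooth)).mpr (RingHom.smooth_algebraMap.mpr ‹Algebra.Smooth k C₂›)
  haveI := SectRank.smoothOfRelativeDimension_of_dim (Spec.map (CommRingCat.ofHom (algebraMap k C₁))) (n := 1)
    ((PrimeSpectrum.topologicalKrullDim_eq_ringKrullDim C₁).trans (by simpa using h₁))
  haveI := SectRank.smoothOfRelativeDimension_of_dim (Spec.map (CommRingCat.ofHom (algebraMap k C₂))) (n := 1)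
    ((PrimeSpectrum.topologicalKrullDim_eq_ringKrullDim C₂).trans (by simpa using h₂))
  haveI : MorphismProperty.IsStableUnderBaseChange (@SmoothOfRelativeDimension 1) :=
    smoothOfRelativeDimension_isStableUnderBaseChange 1
  let p := pullback.fst (Spec.map (CommRingCat.ofHom (algebraMap k C₁))) (Spec.map (CommRingCat.ofHom (algebraMap k C₂)))
  haveI : SmoothOfRelativeDimension 1 p := MorphismProperty.pullback_fst (P := @SmoothOfRelativeDimension 1) _ _ ‹_›
  haveI : SmoothOfRelativeDimension (1 + 1) (p ≫ Spec.map (CommRingCat.ofHom (algebraMap k C₁))) := inferInstance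
  haveI : SmoothOfRelativeDimension (0 + (1 + 1))
      ((pullbackSpecIso k C₁ C₂).inv ≫ p ≫ Spec.map (CommRingCat.ofHom (algebraMap k C₁))) := inferInstance
  have e : (pullbackSpecIso k C₁ C₂).inv ≫ p ≫ Spec.map (CommRingCat.ofHom (algebraMap k C₁)) =
      Spec.map (CommRingCat.ofHom (algebraMap k (C₁ ⊗[k] C₂))) := by
    rw [pullbackSpecIso_inv_fst_assoc, ← Spec.map_comp]
    rfl
  exact e ▸ ‹_›

theorem dim_le_of_relDim {P : Scheme.{u}} (p : P ⟶ Sk) (n : ℕ) [SmoothOfRelativeDimension n p] [IrreducibleSpace P] :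
    topologicalKrullDim P ≤ n :=
  (SectRank.topologicalKrullDim_of_smoothOfRelativeDimension p n).le

end Groth.Agent.BendBreak
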